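import Groth.Agent.ZClosLib.SatFinite
import Groth.Agent.ZClosLib.CohLocus
import Groth.Agent.ZClosLib.Pure
import Groth.Agent.ZClosLib.QCohH0
import Groth.Agent.QCoh.RpushCoh
import Groth.Prelude.Def_Found

/-!
# Coherence of `H⁰` from coherence of the direct images along a covering family
-/

set_option autoImplicit false
set_option linter.style.haveILetI false

universe u

open CategoryTheory CategoryTheory.Limits AlgebraicGeometry TopologicalSpace Opposite

namespace Groth.Agent.ZClosLib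

variable {X : Scheme.{u}} [IsLocallyNoetherian X] {Z : Set X} {F : X.Modules}

/-- For a closed set the closure functor is the direct image from the complement. -/
theorem isCoh_H0_closed (T : ZClos.Cl Z) (h : Coh.IsCoh ((ZClos.resPush T.U).obj F)) :
    Coh.IsCoh ((ZClos.H0 (T.1 : Set X)).obj F) := by
  let Tc : ZClos.Cl (T.1 : Set X) := ⟨T.1, subset_rfl⟩
  let D := (ZClos.diagram (T.1 : Set X)).obj F
  have hle : ∀ S : ZClos.Cl (T.1 : Set X), S ≤ Tc := fun S => S.2
  have hterm : IsTerminal Tc := IsTerminal.ofUniqueHom (fun S => homOfLE (hle S)) fun _ _ => Subsingleton.elim _ _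
  have hi : IsIso (colimit.ι D Tc) := isIso_ι_of_isTerminal hterm D
  let e : D.obj Tc ≅ (ZClos.H0 (T.1 : Set X)).obj F := @asIso _ _ _ _ (colimit.ι D Tc) hi
  have h' : Coh.IsCoh (D.obj Tc) := h
  exact QCoh.isCoh_of_iso_finite e.symm h'.1 fun V hV => finite_sections h' hV

/-- No prime strictly between gives a stalk quotient of dimension at most one. -/
theorem exists_between {V : X.Opens} (hV : IsAffineOpen V) {x y : X} (hx : x ∈ V) (hy : y ∈ V) (h : x ⤳ y)
    (hd : (2 : WithBot ℕ∞) ≤ ringKrullDim (X.presheaf.stalk y ⧸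
      (IsLocalRing.maximalIdeal (X.presheaf.stalk x)).comap (X.presheaf.stalkSpecializes h).hom)) :
    ∃ r : Ideal Γ(X, V), r.IsPrime ∧ (hV.primeIdealOf ⟨x, hx⟩).asIdeal < r ∧
      r < (hV.primeIdealOf ⟨y, hy⟩).asIdeal := by
  letI := QCoh.stalkAlg (X := X) hy
  haveI := QCoh.isLocalization_stalk' hV hy
  set P := (IsLocalRing.maximalIdeal (X.presheaf.stalk x)).comap (X.presheaf.stalkSpecializes h).hom
  haveI : P.IsPrime := Ideal.comap_isPrime _ _
  let g := algebraMap Γ(X, V) (X.presheaf.stalk y)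
  have hP : P.comap g = (hV.primeIdealOf ⟨x, hx⟩).asIdeal := by
    show P.comap (X.presheaf.germ V y hy).hom = _
    rw [← AssLib.comap_maximalIdeal_stalk hV hx, Ideal.comap_comap, ← CommRingCat.hom_comp,
      X.presheaf.germ_stalkSpecializes hy h]
  have hm : (IsLocalRing.maximalIdeal (X.presheaf.stalk y)).comap g = (hV.primeIdealOf ⟨y, hy⟩).asIdeal :=
    AssLib.comap_maximalIdeal_stalk hV hy
  have hinj : Function.Injective (Ideal.comap g : Ideal (X.presheaf.stalk y) → Ideal Γ(X, V)) :=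
    (IsLocalization.orderEmbedding (hV.primeIdealOf ⟨y, hy⟩).asIdeal.primeCompl (X.presheaf.stalk y)).injective
  by_contra hne
  push Not at hne
  have hQ : ∀ Q : Ideal (X.presheaf.stalk y ⧸ P), Q.IsPrime → Q ≠ ⊥ → Q.IsMaximal := fun Q hQ hQ0 => by
    let R := Q.comap (Ideal.Quotient.mk P)
    haveI : R.IsPrime := Ideal.comap_isPrime _ _
    have hPR : P < R := by
      refine lt_of_le_of_ne (fun a ha => ?_) fun e => hQ0 ?_
      · show Ideal.Quotient.mk P a ∈ Q
        rw [Ideal.Quotient.eq_zero_iff_mem.2 ha]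
        exact Q.zero_mem
      · rw [← Ideal.map_comap_of_surjective _ Ideal.Quotient.mk_surjective Q, show Q.comap (Ideal.Quotient.mk P) = P from e.symm]
        exact Ideal.map_quotient_self P
    have hlt : (hV.primeIdealOf ⟨x, hx⟩).asIdeal < R.comap g :=
      hP ▸ lt_of_le_of_ne (Ideal.comap_mono hPR.le) fun e => hPR.ne (hinj e)
    have hRm : R = IsLocalRing.maximalIdeal (X.presheaf.stalk y) := by
      by_contra hne'
      exact hne (R.comap g) (Ideal.comap_isPrime _ _) hlt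
        (hm ▸ lt_of_le_of_ne (Ideal.comap_mono (IsLocalRing.le_maximalIdeal (Ideal.IsPrime.ne_top ‹_›)))
          fun e => hne' (hinj e))
    rw [← Ideal.map_comap_of_surjective _ Ideal.Quotient.mk_surjective Q, show Q.comap (Ideal.Quotient.mk P) = _ from hRm]
    haveI : (IsLocalRing.maximalIdeal (X.presheaf.stalk y)).IsMaximal := inferInstance
    refine (Ideal.map_eq_top_or_isMaximal_of_surjective _ Ideal.Quotient.mk_surjective inferInstance).resolve_left ?_
    intro e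
    refine hQ.ne_top ?_
    rw [← Ideal.map_comap_of_surjective _ Ideal.Quotient.mk_surjective Q, show Q.comap (Ideal.Quotient.mk P) = _ from hRm, e]
  haveI : Ring.KrullDimLE 1 (X.presheaf.stalk y ⧸ P) :=
    Ring.krullDimLE_one_iff_of_noZeroDivisors.2 fun Q hne0 hQp => hQ Q hQp hne0
  have h2 : ringKrullDim (X.presheaf.stalk y ⧸ P) ≤ ((1 : ℕ) : WithBot ℕ∞) := Ring.krullDimLE_iff.1 inferInstance
  exact absurd (hd.trans h2) (by decide)

theorem isCoh_H0_of_family (hZ : StableUnderSpecialization Z) (hF : Coh.IsCoh F) (hass : ∀ x ∈ AssSch.Ass F, x ∉ Z)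
    (hX : ∀ (V : X.Opens) (hV : IsAffineOpen V) (x : X) (hxV : x ∈ V), x ∈ AssSch.Ass F →
        CAlg.IsUniversallyCatenary (Γ(X, V) ⧸ (hV.primeIdealOf ⟨x, hxV⟩).asIdeal) ∧
          CAlg.IsN1 (Γ(X, V) ⧸ (hV.primeIdealOf ⟨x, hxV⟩).asIdeal))
    (𝒯 : Set (ZClos.Cl Z)) (hcov : ∀ z ∈ Z, ∃ T ∈ 𝒯, z ∈ (T.1 : Set X))
    (hd : ∀ T ∈ 𝒯, Coh.IsCoh ((ZClos.resPush T.U).obj F)) :
    Coh.IsCoh ((ZClos.H0 Z).obj F) := by
  have hG := isQCoh_H0 (Z := Z) hF.1
  refine QCoh.isCoh_iff.2 ⟨hG, fun U => ?_⟩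
  obtain ⟨V, hV⟩ := U
  haveI : IsNoetherianRing Γ(X, V) := IsLocallyNoetherian.component_noetherian ⟨V, hV⟩
  haveI := finite_sections hF hV
  let A := Γ(X, V)
  let pt : PrimeSpectrum A → Prop := fun q => ∃ (y : X) (hy : y ∈ V), y ∈ Z ∧ hV.primeIdealOf ⟨y, hy⟩ = q
  have hpt : ∀ (y : X) (hy : y ∈ V), pt (hV.primeIdealOf ⟨y, hy⟩) → y ∈ Z := fun y hy ⟨y', hy', hz, e⟩ =>
    AssLib.eq_of_primeIdealOf_eq hV hy hy' (congrArg PrimeSpectrum.asIdeal e) ▸ hz
  have hvc : IsCompact (V : Set X) := hV.isCompact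
  let G := (ZClos.H0 Z).obj F
  let ρ : Γ(F, V) →ₗ[A] Γ(G, V) := QCoh.appLin (ZClos.rhoApp Z F) V
  have hρ : Function.Injective ρ := by
    haveI : Mono (ZClos.rhoApp Z F) := isZPure_of_ass hF.1 hass
    exact app_injective_of_mono (ZClos.rhoApp Z F) V
  refine finite_of_sat {q | pt q} ρ hρ ?_ ?_ ?_
  · intro s q hq
    obtain ⟨x, hx, rfl⟩ := QCoh.exists_point hV q
    by_contra hxZ
    have hxZ' : x ∉ Z := fun h => hxZ ⟨x, hx, h, rfl⟩
    letI := QCoh.stalkAlg (X := X) hx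
    letI := QCoh.stalkModule F hx
    haveI := QCoh.isLocalizedModule_germLin hF.1 hV hx
    obtain ⟨z, hz⟩ := (isZClosedAt_of_not_mem F hxZ' : ZClos.IsZClosedAt Z F x).2 (G.presheaf.germ V x hx s)
    obtain ⟨⟨m, r⟩, hr⟩ := IsLocalizedModule.surj (hV.primeIdealOf ⟨x, hx⟩).asIdeal.primeCompl (QCoh.germLin F hx) z
    let φ : F.presheaf.stalk x →ₗ[X.presheaf.stalk x] G.presheaf.stalk x :=
      ((DerSch.stalkFunctor X x).map (ZClos.rhoApp Z F)).hom
    have hgerm : G.presheaf.germ V x hx (r.1 • s - ρ m) = 0 := by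
      have e1 : φ (X.presheaf.germ V x hx r.1 • z) = G.presheaf.germ V x hx (ρ m) :=
        (congrArg φ (hr : X.presheaf.germ V x hx r.1 • z = _)).trans (germ_rho V hx m)
      rw [map_smul, show φ z = G.presheaf.germ V x hx s from hz, ← QCoh.germ_smul' G hx] at e1
      rw [map_sub, e1, sub_self]
    obtain ⟨f, hxf, hf⟩ := (QCoh.germ_eq_zero_iff hG hV hx _).1 hgerm
    refine (hV.primeIdealOf ⟨x, hx⟩).isPrime.mul_notMem ((QCoh.mem_basicOpen_iff_notMem hV hx f).1 hxf) r.2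
      (hq (f * r.1) ⟨f • m, ?_⟩)
    rw [smul_sub, sub_eq_zero] at hf
    rw [map_smul, mul_smul, hf]
  · intro s hs
    obtain ⟨T, a, rfl⟩ := exists_cls hvc s
    have h0 : cls T V (0 : Γ(F, img T.U V)) = 0 := map_zero ((toH0 Z F T).app V).hom
    rw [← h0]
    refine cls_eq_of_germ_eq hZ _ _ fun x hx hxZ => ?_
    have hxV : x ∈ V := img_le T.U V hx
    have hgs : G.presheaf.germ V x hxV (cls T V a) = 0 := by
      by_contra hne
      refine hxZ (hpt x hxV (hs _ fun c hc => by_contra fun hcx => hne ?_))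
      exact (QCoh.germ_eq_zero_iff hG hV hxV _).2 ⟨c, (QCoh.mem_basicOpen_iff_notMem hV hxV c).2 hcx, hc⟩
    rw [map_zero]
    refine (isZClosedAt_of_not_mem F hxZ : ZClos.IsZClosedAt Z F x).1 ?_
    rw [germ_rho, map_zero, rho_app_eq T, ← hgs, ← germ_res G (img_le T.U V) hx (cls T V a), cls_res]
  · intro p hp
    obtain ⟨x, hx, rfl⟩ := QCoh.exists_point hV p
    have hxa : x ∈ AssSch.Ass F := (AssLib.mem_ass_iff hF.1 hV hx).2 hp
    refine ⟨fun hxZ => hass x hxa (hpt x hx hxZ),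
      SecFin.heightOneHullFinite _ (hX V hV x hx hxa).1 (hX V hV x hx hxa).2, ?_⟩
    rintro q ⟨y, hy, hyZ, rfl⟩ hle
    have hxy : x ⤳ y := (AssLib.primeIdealOf_le_iff hV hy hx).1 hle
    obtain ⟨T, hT, hyT⟩ := hcov y hyZ
    exact exists_between hV hx hy hxy (two_le_dim_quot hF.1 (isCoh_H0_closed T (hd T hT))
      T.1.isClosed.stableUnderSpecialization hxa (fun h => hass x hxa (T.2 h)) hyT hxy)

end Groth.Agent.ZClosLib
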