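import Groth.Agent.ZClosLib.SuffFinite
import Groth.Prelude.Def_EGA4c

/-!
# Coherence of the closure of `M~` and finiteness of `B^(1)`
-/

set_option autoImplicit false
set_option linter.style.haveILetI false

universe u

open CategoryTheory CategoryTheory.Limits AlgebraicGeometry TopologicalSpace Opposite

namespace Groth.Agent.ZClosLib

variable {X : Scheme.{u}} [IsLocallyNoetherian X] {Z : Set X} {F : X.Modules} {V : X.Opens}

/-- A section of the closure is, near a point outside `Z`, a section of the module. -/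
theorem exists_smul_mem_range (hF : Coh.IsQCoh F) (hV : IsAffineOpen V) (s : Γ((ZClos.H0 Z).obj F, V))
    {x : X} (hx : x ∈ V) (hxZ : x ∉ Z) :
    ∃ (c : Γ(X, V)) (m : Γ(F, V)), x ∈ X.basicOpen c ∧ c • s = (ZClos.rhoApp Z F).app V m := by
  letI := QCoh.stalkAlg (X := X) hx
  letI := QCoh.stalkModule F hx
  haveI := QCoh.isLocalizedModule_germLin hF hV hx
  let G := (ZClos.H0 Z).obj F
  let ρ := QCoh.appLin (ZClos.rhoApp Z F) V
  obtain ⟨z, hz⟩ := (isZClosedAt_of_not_mem F hxZ : ZClos.IsZClosedAt Z F x).2 (G.presheaf.germ V x hx s)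
  obtain ⟨⟨m, r⟩, hr⟩ := IsLocalizedModule.surj (hV.primeIdealOf ⟨x, hx⟩).asIdeal.primeCompl (QCoh.germLin F hx) z
  let φ : F.presheaf.stalk x →ₗ[X.presheaf.stalk x] G.presheaf.stalk x :=
    ((DerSch.stalkFunctor X x).map (ZClos.rhoApp Z F)).hom
  have hgerm : G.presheaf.germ V x hx (r.1 • s - ρ m) = 0 := by
    have e1 : φ (X.presheaf.germ V x hx r.1 • z) = G.presheaf.germ V x hx (ρ m) :=
      (congrArg φ (hr : X.presheaf.germ V x hx r.1 • z = _)).trans (germ_rho V hx m)
    rw [map_smul, show φ z = G.presheaf.germ V x hx s from hz, ← QCoh.germ_smul' G hx] at e1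
    rw [map_sub, e1, sub_self]
  obtain ⟨f, hxf, hf⟩ := (QCoh.germ_eq_zero_iff (isQCoh_H0 hF) hV hx _).1 hgerm
  refine ⟨f * r.1, f • m, ?_, ?_⟩
  · rw [QCoh.mem_basicOpen_iff_notMem hV hx] at hxf ⊢
    exact (hV.primeIdealOf ⟨x, hx⟩).isPrime.mul_notMem hxf r.2
  · show _ = ρ (f • m)
    rw [smul_sub, sub_eq_zero] at hf
    rw [map_smul, mul_smul, hf]

/-- The kernel of the map to the closure is supported in `Z`. -/
theorem exists_smul_eq_zero_of_rho (hF : Coh.IsQCoh F) (hV : IsAffineOpen V) (m : Γ(F, V))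
    (h : (ZClos.rhoApp Z F).app V m = 0) {x : X} (hx : x ∈ V) (hxZ : x ∉ Z) :
    ∃ c : Γ(X, V), x ∈ X.basicOpen c ∧ c • m = 0 := by
  refine (QCoh.germ_eq_zero_iff hF hV hx _).1 ((isZClosedAt_of_not_mem F hxZ : ZClos.IsZClosedAt Z F x).1 ?_)
  rw [germ_rho, h, map_zero, map_zero]

/-- The closure has no section supported in `Z`. -/
theorem eq_zero_of_locally_killed (hZ : StableUnderSpecialization Z) (hF : Coh.IsQCoh F) (hV : IsAffineOpen V)
    (s : Γ((ZClos.H0 Z).obj F, V))
    (h : ∀ x : X, x ∈ V → x ∉ Z → ∃ c : Γ(X, V), x ∈ X.basicOpen c ∧ c • s = 0) : s = 0 := by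
  obtain ⟨T, a, rfl⟩ := exists_cls hV.isCompact s
  have h0 : cls T V (0 : Γ(F, img T.U V)) = 0 := map_zero ((toH0 Z F T).app V).hom
  rw [← h0]
  refine cls_eq_of_germ_eq hZ _ _ fun x hx hxZ => ?_
  have hxV : x ∈ V := img_le T.U V hx
  obtain ⟨c, hxc, hc⟩ := h x hxV hxZ
  have hgs : ((ZClos.H0 Z).obj F).presheaf.germ V x hxV (cls T V a) = 0 :=
    (QCoh.germ_eq_zero_iff (isQCoh_H0 hF) hV hxV _).2 ⟨c, hxc, hc⟩
  rw [map_zero]
  refine (isZClosedAt_of_not_mem F hxZ : ZClos.IsZClosedAt Z F x).1 ?_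
  rw [germ_rho, map_zero, rho_app_eq T, ← hgs,
    ← germ_res ((ZClos.H0 Z).obj F) (img_le T.U V) hx (cls T V a), cls_res]

/-- Sections of the closure from compatible fractions. -/
theorem exists_sect (hZ : StableUnderSpecialization Z) (hV : IsAffineOpen V) {ι : Type u} (a : ι → Γ(X, V))
    (u : ι → Γ(F, V)) (hu : ∀ i j, a i • u j = a j • u i)
    (hcov : ∀ x : X, x ∈ V → x ∉ Z → ∃ i, x ∈ X.basicOpen (a i)) :
    ∃ s : Γ((ZClos.H0 Z).obj F, V), ∀ i, a i • s = (ZClos.rhoApp Z F).app V (u i) := by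
  let G := (ZClos.H0 Z).obj F
  let ρ := QCoh.appLin (ZClos.rhoApp Z F) V
  let W : X.Opens := ⨆ i, X.basicOpen (a i)
  obtain ⟨T, hT⟩ := exists_cl hZ (W := V) (O := W) fun x hx => by_contra fun hxZ =>
    hx.2 (Opens.mem_iSup.2 (hcov x hx.1 hxZ))
  let O := V ⊓ T.U
  choose σ hσ using fun i => exists_div (F := G) (a i) (O := O ⊓ X.basicOpen (a i)) inf_le_right (ρ (u i))
  obtain ⟨t, ht⟩ := exists_glue G (fun i => O ⊓ X.basicOpen (a i)) (fun i => inf_le_left)
    (fun y hy => by
      obtain ⟨i, hi⟩ := Opens.mem_iSup.1 (hT hy)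
      exact ⟨i, hy, hi⟩) σ fun i j => by
    refine section_ext G _ _ fun y hy => ?_
    have hi := isUnit_germ_of_mem hy.1.2
    have hj := isUnit_germ_of_mem hy.2.2
    rw [germ_res, germ_res, ← (hi.mul hj).smul_left_cancel, mul_smul, mul_smul,
      smul_comm (X.presheaf.germ V y _ (a i)), hσ i y hy.1, hσ j y hy.2, ← QCoh.germ_smul', ← QCoh.germ_smul',
      ← map_smul, ← map_smul, hu]
  obtain ⟨s, hs⟩ := (res_H0_bijective (Z := Z) (F := F) T hV.isCompact).2 t
  refine ⟨s, fun i => (res_H0_bijective (Z := Z) (F := F) T hV.isCompact).1 (section_ext G _ _ fun y hy => ?_)⟩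
  obtain ⟨j, hj⟩ := Opens.mem_iSup.1 (hT hy)
  have hst : G.presheaf.germ V y hy.1 s = G.presheaf.germ (O ⊓ X.basicOpen (a j)) y ⟨hy, hj⟩ (σ j) := by
    rw [← ht j, germ_res, ← hs, germ_res]
  rw [germ_res, germ_res, QCoh.germ_smul', ← (isUnit_germ_of_mem hj).smul_left_cancel, smul_comm, hst,
    hσ j y ⟨hy, hj⟩, ← QCoh.germ_smul', ← QCoh.germ_smul']
  show _ = G.presheaf.germ V y hy.1 (a j • ρ (u i))
  rw [← map_smul, ← map_smul, hu]

/-- Primes strictly between `p` and a prime of height at least two over it. -/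
theorem exists_between_of_height {A : Type u} [CommRing A] {p q : Ideal A} [p.IsPrime] [q.IsPrime] (hpq : p ≤ q)
    (h : (2 : ℕ∞) ≤ (q.map (Ideal.Quotient.mk p)).height) :
    ∃ r : Ideal A, r.IsPrime ∧ p < r ∧ r < q := by
  let π := Ideal.Quotient.mk p
  haveI hq : (q.map π).IsPrime := Ideal.map_isPrime_of_surjective Ideal.Quotient.mk_surjective (by rwa [Ideal.mk_ker])
  by_contra hne
  push Not at hne
  have h1 : (q.map π).height ≤ ((1 : ℕ) : ℕ∞) := Ideal.height_le_iff.2 fun r hr hlt => by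
    haveI := hr
    suffices r = ⊥ by
      subst this
      rw [Ideal.height_bot]
      exact zero_lt_one
    by_contra hr0
    refine hne (r.comap π) (Ideal.comap_isPrime _ _) (lt_of_le_of_ne (fun x hx => ?_) fun e => hr0 ?_)
      (lt_of_le_of_ne ?_ fun e => hlt.ne ?_)
    · rw [Ideal.mem_comap, Ideal.Quotient.eq_zero_iff_mem.2 hx]
      exact r.zero_mem
    · rw [← Ideal.map_comap_of_surjective _ Ideal.Quotient.mk_surjective r, ← e]
      exact Ideal.map_quotient_self p
    · refine (Ideal.comap_mono hlt.le).trans ?_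
      rw [Ideal.comap_map_of_surjective _ Ideal.Quotient.mk_surjective, ← RingHom.ker_eq_comap_bot, Ideal.mk_ker]
      exact sup_le le_rfl hpq
    · rw [← Ideal.map_comap_of_surjective _ Ideal.Quotient.mk_surjective r, e]
  exact absurd (h.trans h1) (by decide)

section Spec

variable {A : Type u} [CommRing A] [IsNoetherianRing A] {M : Type u} [AddCommGroup M] [Module A M] [Module.Finite A M]

/-- The global sections of the closure as a module over `A`. -/
abbrev secA (Z : Set (PrimeSpectrum A)) (M : Type u) [AddCommGroup M] [Module A M] : Type u :=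
  Γ((ZClos.H0 (X := Spec (CommRingCat.of A)) Z).obj (EGA4.tildeOf A M), ⊤)

variable (Z : Set (PrimeSpectrum A))

noncomputable instance : Module A (secA Z M) :=
  Module.compHom _ (Scheme.ΓSpecIso (CommRingCat.of A)).inv.hom

theorem smul_secA (a : A) (s : secA Z M) :
    a • s = (Scheme.ΓSpecIso (CommRingCat.of A)).inv.hom a • s := rfl

noncomputable def rhoA : M →ₗ[A] secA Z M where
  toFun m := (ZClos.rhoApp (X := Spec (CommRingCat.of A)) Z (EGA4.tildeOf A M)).app ⊤
    ((tilde.toOpen (ModuleCat.of (CommRingCat.of A) M) ⊤).hom m)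
  map_add' x y := (congrArg _ (map_add (tilde.toOpen (ModuleCat.of (CommRingCat.of A) M) ⊤).hom x y)).trans
    ((QCoh.appLin (ZClos.rhoApp (X := Spec (CommRingCat.of A)) Z (EGA4.tildeOf A M)) ⊤).map_add _ _)
  map_smul' a x := (congrArg _ ((tilde.toOpen (ModuleCat.of (CommRingCat.of A) M) ⊤).hom.map_smul a x)).trans
    ((QCoh.appLin (ZClos.rhoApp (X := Spec (CommRingCat.of A)) Z (EGA4.tildeOf A M)) ⊤).map_smul _ _)

theorem mem_basicOpen_iff (a : A) (q : PrimeSpectrum A) :
    q ∈ ((Spec (CommRingCat.of A)).basicOpen ((Scheme.ΓSpecIso (CommRingCat.of A)).inv.hom a)) ↔ a ∉ q.asIdeal := by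
  have := basicOpen_eq_of_affine (R := CommRingCat.of A) a
  exact (SetLike.ext_iff.1 this q).trans Iff.rfl

theorem toOpen_bijective :
    Function.Bijective (tilde.toOpen (ModuleCat.of (CommRingCat.of A) M) ⊤).hom :=
  (tilde.isoTop (ModuleCat.of (CommRingCat.of A) M)).toLinearEquiv.bijective

theorem exists_preimage (c : Γ(Spec (CommRingCat.of A), ⊤)) :
    ∃ a : A, (Scheme.ΓSpecIso (CommRingCat.of A)).inv.hom a = c :=
  ⟨(Scheme.ΓSpecIso (CommRingCat.of A)).hom c, Iso.hom_inv_id_apply (Scheme.ΓSpecIso (CommRingCat.of A)) c⟩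

theorem sat_secA (s : secA Z M) (q : PrimeSpectrum A) (hq : q ∉ Z) :
    ∃ (a : A) (m : M), a ∉ q.asIdeal ∧ a • s = rhoA Z m := by
  obtain ⟨c, m, hc, e⟩ := exists_smul_mem_range (X := Spec (CommRingCat.of A)) (Z := Z)
    (F := EGA4.tildeOf A M) inferInstance (isAffineOpen_top _) s (x := q) trivial hq
  obtain ⟨a, rfl⟩ := exists_preimage c
  obtain ⟨m', rfl⟩ := (toOpen_bijective (A := A) (M := M)).2 m
  exact ⟨a, m', (mem_basicOpen_iff a q).1 hc, e⟩

theorem ker_secA (m : M) (h : rhoA Z m = 0) (q : PrimeSpectrum A) (hq : q ∉ Z) :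
    ∃ a : A, a ∉ q.asIdeal ∧ a • m = 0 := by
  obtain ⟨c, hc, e⟩ := exists_smul_eq_zero_of_rho (X := Spec (CommRingCat.of A)) (Z := Z)
    (F := EGA4.tildeOf A M) inferInstance (isAffineOpen_top _) _ h (x := q) trivial hq
  obtain ⟨a, rfl⟩ := exists_preimage c
  refine ⟨a, (mem_basicOpen_iff a q).1 hc, (toOpen_bijective (A := A) (M := M)).1 ?_⟩
  rw [map_zero, map_smul]
  exact e

theorem pure_secA (hZ : StableUnderSpecialization Z) (s : secA Z M)
    (h : ∀ q : PrimeSpectrum A, q ∉ Z → ∃ a : A, a ∉ q.asIdeal ∧ a • s = 0) : s = 0 :=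
  eq_zero_of_locally_killed (X := Spec (CommRingCat.of A)) hZ (F := EGA4.tildeOf A M) inferInstance
    (isAffineOpen_top _) s fun x _ hxZ => by
      obtain ⟨a, ha, e⟩ := h x hxZ
      exact ⟨_, (mem_basicOpen_iff a x).2 ha, e⟩

theorem isCoh_H0_tilde (hZ : StableUnderSpecialization Z)
    (hull : ∀ (q : Ideal A) [q.IsPrime], EGA4.HeightOneHullFinite (A ⧸ q))
    (h : ∀ x : PrimeSpectrum A, x.asIdeal ∈ associatedPrimes A M → x ∉ Z →
          ∀ y ∈ Z, x.asIdeal ≤ y.asIdeal → (2 : ℕ∞) ≤ (y.asIdeal.map (Ideal.Quotient.mk x.asIdeal)).height) :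
    Coh.IsCoh ((ZClos.H0 (X := Spec (CommRingCat.of A)) Z).obj (EGA4.tildeOf A M)) := by
  haveI hfin : Module.Finite A (secA Z M) := by
    refine finite_of_sat' Z (rhoA Z) (fun s q hq => ?_) (fun s hs => pure_secA Z hZ s fun q hq => ?_)
      (fun m hm q hq => ker_secA Z m hm q hq) (fun q hq q' hle => hZ ((PrimeSpectrum.le_iff_specializes q q').1 hle) hq)
      fun p hp hpP => ⟨hull p.asIdeal, fun q hq hle => exists_between_of_height hle (h p hp hpP q hq hle)⟩
    · by_contra hqZ
      obtain ⟨a, m, ha, e⟩ := sat_secA Z s q hqZ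
      exact ha (hq a ⟨m, e.symm⟩)
    · by_contra hne
      push Not at hne
      exact hq (hs q fun a ha => by_contra fun haq => hne a haq ha)
  have hG : Coh.IsQCoh ((ZClos.H0 (X := Spec (CommRingCat.of A)) Z).obj (EGA4.tildeOf A M)) :=
    isQCoh_H0 inferInstance
  refine ⟨hG, QCoh.isFT_of_finite hG (fun _ : PUnit.{u + 1} => (⊤ : (Spec (CommRingCat.of A)).Opens))
    (top_le_iff.1 fun x _ => Opens.mem_iSup.2 ⟨PUnit.unit, trivial⟩) (fun _ => isAffineOpen_top _) fun _ => ?_⟩
  obtain ⟨g, hg⟩ := hfin.fg_top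
  suffices ∀ s : secA Z M, s ∈ Submodule.span Γ(Spec (CommRingCat.of A), ⊤) (g : Set (secA Z M)) from
    ⟨⟨g, eq_top_iff.2 fun s _ => this s⟩⟩
  intro s
  have hs : s ∈ Submodule.span A (g : Set (secA Z M)) := hg ▸ Submodule.mem_top
  induction hs using Submodule.span_induction with
  | mem x hx => exact Submodule.subset_span hx
  | zero => exact zero_mem _
  | add x y _ _ hx hy => exact add_mem hx hy
  | smul a x _ hx => exact Submodule.smul_mem _ _ hx

theorem hullFinite_of_isCoh
    (h : ∀ (M : Type u) [AddCommGroup M] [Module A M] [Module.Finite A M] (Z : Set (PrimeSpectrum A)),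
        StableUnderSpecialization Z →
        (∀ x : PrimeSpectrum A, x.asIdeal ∈ associatedPrimes A M → x ∉ Z →
          ∀ y ∈ Z, x.asIdeal ≤ y.asIdeal → (2 : ℕ∞) ≤ (y.asIdeal.map (Ideal.Quotient.mk x.asIdeal)).height) →
        Coh.IsCoh ((ZClos.H0 (X := Spec (CommRingCat.of A)) Z).obj (EGA4.tildeOf A M)))
    (q : Ideal A) [q.IsPrime] : EGA4.HeightOneHullFinite (A ⧸ q) := by
  let B := A ⧸ q
  let K := FractionRing B
  let π := Ideal.Quotient.mk q
  let Z : Set (PrimeSpectrum A) := {y | q ≤ y.asIdeal ∧ (2 : ℕ∞) ≤ (y.asIdeal.map π).height}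
  have hZ : StableUnderSpecialization Z := fun y y' hyy hy =>
    have hle : y.asIdeal ≤ y'.asIdeal := (PrimeSpectrum.le_iff_specializes y y').2 hyy
    ⟨hy.1.trans hle, hy.2.trans (Ideal.height_mono (Ideal.map_mono hle))⟩
  have hcoh := h B Z hZ fun x hx _ y hy _ => by
    have hxq : x.asIdeal = q := by
      obtain ⟨-, b, hb⟩ := isAssociatedPrime_iff.1 hx
      obtain ⟨b, rfl⟩ := Ideal.Quotient.mk_surjective b
      have hbq : b ∉ q := fun hb' => x.isPrime.ne_top ((Ideal.eq_top_iff_one _).2 (by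
        rw [hb, Submodule.mem_colon_singleton, Submodule.mem_bot, one_smul]
        exact Ideal.Quotient.eq_zero_iff_mem.2 hb'))
      refine Ideal.ext fun a => ?_
      rw [hb, Submodule.mem_colon_singleton, Submodule.mem_bot, Algebra.smul_def, Ideal.Quotient.algebraMap_eq,
        ← map_mul, Ideal.Quotient.eq_zero_iff_mem]
      exact ⟨fun h => (‹q.IsPrime›.mem_or_mem h).resolve_right hbq, fun h => q.mul_mem_right _ h⟩
    rw [hxq]
    exact hy.2
  let qs : PrimeSpectrum A := ⟨q, inferInstance⟩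
  have hqZ : qs ∉ Z := fun hh => absurd hh.2 (by
    show ¬ ((2 : ℕ∞) ≤ (q.map π).height)
    rw [Ideal.map_quotient_self, Ideal.height_bot]
    decide)
  haveI hfin : Module.Finite A (secA Z B) := by
    obtain ⟨g, hg⟩ := (finite_sections hcoh (isAffineOpen_top _)).fg_top
    refine ⟨⟨g, eq_top_iff.2 fun s _ => ?_⟩⟩
    have hs : s ∈ Submodule.span Γ(Spec (CommRingCat.of A), ⊤) (g : Set (secA Z B)) := hg ▸ Submodule.mem_top
    induction hs using Submodule.span_induction with
    | mem x hx => exact Submodule.subset_span hx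
    | zero => exact zero_mem _
    | add x y _ _ hx hy => exact add_mem (hx trivial) (hy trivial)
    | smul c x _ hx =>
      obtain ⟨a, rfl⟩ := exists_preimage c
      exact (Submodule.smul_mem _ a (hx trivial) :)
  have hinj : Function.Injective (rhoA Z (M := B)) := by
    refine (injective_iff_map_eq_zero _).2 fun b hb => ?_
    obtain ⟨c, hc, e⟩ := ker_secA Z b hb qs hqZ
    rw [Algebra.smul_def, Ideal.Quotient.algebraMap_eq, mul_eq_zero] at e
    exact e.resolve_left fun e' => hc (Ideal.Quotient.eq_zero_iff_mem.1 e')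
  -- a common denominator
  obtain ⟨g, hg⟩ := hfin.fg_top
  choose c m hc hm using fun s : secA Z B => sat_secA Z s qs hqZ
  let C := ∏ s ∈ g, c s
  have hC : π C ≠ 0 := fun e => by
    obtain ⟨s, hs, hsq⟩ := ‹q.IsPrime›.prod_mem_iff.1 (Ideal.Quotient.eq_zero_iff_mem.1 e)
    exact hc s hsq
  have hCs : ∀ s : secA Z B, C • s ∈ LinearMap.range (rhoA Z (M := B)) := fun s => by
    have hs : s ∈ Submodule.span A (g : Set (secA Z B)) := hg ▸ Submodule.mem_top
    induction hs using Submodule.span_induction with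
    | mem x hx =>
      obtain ⟨w, hw⟩ := Finset.dvd_prod_of_mem c (show x ∈ g from hx)
      exact ⟨w • m x, by rw [map_smul, ← hm, smul_smul, show C = w * c x from hw.trans (mul_comm _ _)]⟩
    | zero => rw [smul_zero]; exact zero_mem _
    | add x y _ _ hx hy => rw [smul_add]; exact add_mem hx hy
    | smul a x _ hx => rw [smul_comm]; exact Submodule.smul_mem _ a hx
  -- the hull lies in `(1/C) B`
  have hmain : ∀ x ∈ EGA4.heightOneHull B, ∃ b : B, algebraMap B K (π C) * x = algebraMap B K b := fun x hx => by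
    let ι := {p : A × B // algebraMap B K (π p.1) * x = algebraMap B K p.2}
    have hπinj := IsFractionRing.injective B K
    obtain ⟨s, hs⟩ := exists_sect (X := Spec (CommRingCat.of A)) hZ (F := EGA4.tildeOf A B) (V := ⊤)
      (isAffineOpen_top _) (fun i : ι => (Scheme.ΓSpecIso (CommRingCat.of A)).inv.hom i.1.1)
      (fun i => (tilde.toOpen (ModuleCat.of (CommRingCat.of A) B) ⊤).hom i.1.2) (fun i j => by
        have e : i.1.1 • j.1.2 = j.1.1 • i.1.2 := hπinj (by
          rw [Algebra.smul_def, Algebra.smul_def, Ideal.Quotient.algebraMap_eq, map_mul, map_mul, ← i.2, ← j.2]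
          ring)
        have := congrArg (tilde.toOpen (ModuleCat.of (CommRingCat.of A) B) ⊤).hom e
        rwa [map_smul, map_smul] at this)
      (fun y _ hy => by
        let y' : PrimeSpectrum A := y
        suffices ∃ i : ι, i.1.1 ∉ y'.asIdeal by
          obtain ⟨i, hi⟩ := this
          exact ⟨i, (mem_basicOpen_iff _ y').2 hi⟩
        by_cases hqy : q ≤ y'.asIdeal
        swap
        · obtain ⟨a, haq, hay⟩ := Set.not_subset.1 hqy
          exact ⟨⟨(a, 0), by rw [Ideal.Quotient.eq_zero_iff_mem.2 haq, map_zero, zero_mul]⟩, hay⟩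
        haveI : (y'.asIdeal.map π).IsPrime :=
          Ideal.map_isPrime_of_surjective Ideal.Quotient.mk_surjective (by rwa [Ideal.mk_ker])
        have hlt : (y'.asIdeal.map π).height < 2 := not_le.1 fun h2 => hy ⟨hqy, h2⟩
        have hcm : (y'.asIdeal.map π).comap π = y'.asIdeal := by
          rw [Ideal.comap_map_of_surjective _ Ideal.Quotient.mk_surjective, ← RingHom.ker_eq_comap_bot, Ideal.mk_ker,
            sup_eq_left.2 hqy]
        by_cases h1 : (y'.asIdeal.map π).height = 1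
        · obtain ⟨s, hs, a, ha⟩ := hx _ h1
          obtain ⟨s, rfl⟩ := Ideal.Quotient.mk_surjective s
          exact ⟨⟨(s, a), ha.symm⟩, fun h => hs (Ideal.mem_map_of_mem _ h)⟩
        · have h0 : (y'.asIdeal.map π).height = 0 := by
            by_contra h0
            obtain ⟨k, hk⟩ := ENat.ne_top_iff_exists.1 (ne_top_of_lt hlt)
            rw [← hk] at hlt h1 h0
            norm_cast at hlt h1 h0
            omega
          have hb : y'.asIdeal.map π = ⊥ := Ideal.height_eq_zero_iff_eq_bot.1 h0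
          obtain ⟨n, d, hd, rfl⟩ := IsFractionRing.div_surjective (A := B) x
          obtain ⟨d, rfl⟩ := Ideal.Quotient.mk_surjective d
          have hd0 : algebraMap B K (π d) ≠ 0 := fun e =>
            nonZeroDivisors.ne_zero hd (hπinj (e.trans (map_zero _).symm))
          refine ⟨⟨(d, n), mul_div_cancel₀ _ hd0⟩, fun h => nonZeroDivisors.ne_zero hd ?_⟩
          exact (Submodule.mem_bot B).1 (hb ▸ Ideal.mem_map_of_mem π h))
    obtain ⟨b, hb⟩ := hCs s
    refine ⟨b, ?_⟩
    obtain ⟨⟨n, d, hd, rfl⟩⟩ := (⟨IsFractionRing.div_surjective (A := B) x⟩ : Nonempty _)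
    obtain ⟨d, rfl⟩ := Ideal.Quotient.mk_surjective d
    have hd0 : algebraMap B K (π d) ≠ 0 := fun e =>
      nonZeroDivisors.ne_zero hd (hπinj (e.trans (map_zero _).symm))
    let i : ι := ⟨(d, n), mul_div_cancel₀ _ hd0⟩
    have hi : d • s = rhoA Z n := hs i
    have e : C • n = d • b := hinj (by rw [map_smul, map_smul, ← hi, hb, smul_comm])
    have e' := congrArg (algebraMap B K) e
    rw [Algebra.smul_def, Algebra.smul_def, Ideal.Quotient.algebraMap_eq, map_mul, map_mul] at e'
    rw [← mul_div_assoc, e', mul_div_cancel_left₀ _ hd0]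
  let T : Subalgebra B K :=
    { carrier := EGA4.heightOneHull B
      mul_mem' := by
        intro x y hx hy p hp h
        obtain ⟨s, hs, a, ha⟩ := hx p h
        obtain ⟨t, ht, b, hb⟩ := hy p h
        exact ⟨s * t, hp.mul_notMem hs ht, a * b, by rw [map_mul, map_mul, ha, hb]; ring⟩
      add_mem' := by
        intro x y hx hy p hp h
        obtain ⟨s, hs, a, ha⟩ := hx p h
        obtain ⟨t, ht, b, hb⟩ := hy p h
        exact ⟨s * t, hp.mul_notMem hs ht, a * t + b * s, by
          rw [map_add, map_mul, map_mul, map_mul, ha, hb]; ring⟩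
      algebraMap_mem' := fun r p hp _ => ⟨1, fun h => hp.ne_top ((Ideal.eq_top_iff_one p).2 h), r, by rw [map_one, one_mul]⟩ }
  refine ⟨T, rfl, ?_⟩
  have hC' : algebraMap B K (π C) ≠ 0 := fun e => hC (IsFractionRing.injective B K (e.trans (map_zero _).symm))
  have hle : Subalgebra.toSubmodule T ≤ Submodule.span B {(algebraMap B K (π C))⁻¹} := fun x hx => by
    obtain ⟨b, hb⟩ := hmain x hx
    exact Submodule.mem_span_singleton.2 ⟨b, by
      rw [Algebra.smul_def, ← hb, mul_comm (algebraMap B K (π C)), mul_assoc, mul_inv_cancel₀ hC', mul_one]⟩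
  haveI : Module.Finite B (Submodule.span B {(algebraMap B K (π C))⁻¹}) :=
    Module.Finite.iff_fg.2 (Submodule.fg_span_singleton _)
  exact Module.Finite.of_injective (Submodule.inclusion hle) (Submodule.inclusion_injective _)

end Spec

end Groth.Agent.ZClosLib
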