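import Groth.Agent.SecFin.Normal
import Mathlib.RingTheory.Ideal.AssociatedPrime.Localization
import Mathlib.Algebra.Module.FinitePresentation

/-!
# Finiteness of a saturation of a finite module along a set of primes
-/

set_option autoImplicit false
set_option linter.style.haveILetI false

universe u

namespace Groth.Agent.ZClosLib

variable {B : Type u} [CommRing B] [IsDomain B]

/-- If all functionals kill an element of a finite module over a Noetherian domain, it is torsion. -/
theorem exists_smul_eq_zero_of_dual_eq_zero [IsNoetherianRing B] {N : Type u} [AddCommGroup N] [Module B N]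
    [Module.Finite B N] (n : N) (h : ∀ g : N →ₗ[B] B, g n = 0) : ∃ a : B, a ≠ 0 ∧ a • n = 0 := by
  by_contra hne
  push Not at hne
  let S := nonZeroDivisors B
  let K := FractionRing B
  let f := LocalizedModule.mkLinearMap S N
  have hn : f n ≠ 0 := fun h0 => by
    obtain ⟨⟨a, ha⟩, h0⟩ := (IsLocalizedModule.eq_zero_iff S f).1 h0
    exact hne a (nonZeroDivisors.ne_zero ha) h0
  obtain ⟨φ, hφ⟩ : ∃ φ : LocalizedModule S N →ₗ[K] K, φ (f n) ≠ 0 := by
    by_contra hall
    push Not at hall
    exact hn ((Module.forall_dual_apply_eq_zero_iff K _).1 hall)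
  obtain ⟨gens, hgens⟩ := Module.Finite.fg_top (R := B) (M := N)
  haveI : Module.FinitePresentation B N := Module.finitePresentation_of_finite B N
  obtain ⟨g, s, hg⟩ := Module.FinitePresentation.exists_lift_of_isLocalizedModule S
    (Algebra.linearMap B K) ((φ.restrictScalars B).comp f)
  refine hφ ?_
  have h1 := LinearMap.congr_fun hg n
  rw [LinearMap.comp_apply, h g, map_zero, LinearMap.smul_apply, LinearMap.comp_apply,
    LinearMap.coe_restrictScalars] at h1
  exact (smul_eq_zero.1 h1.symm).resolve_left fun hs => nonZeroDivisors.ne_zero s.2 hs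

variable {A : Type u} [CommRing A] [IsNoetherianRing A] {M G : Type u} [AddCommGroup M] [Module A M]
  [Module.Finite A M] [AddCommGroup G] [Module A G]

/-- The elements killed by an ideal. -/
def killed (I : Ideal A) (G : Type u) [AddCommGroup G] [Module A G] : Submodule A G where
  carrier := {s | ∀ a ∈ I, a • s = 0}
  add_mem' := fun hx hy a ha => by rw [smul_add, hx a ha, hy a ha, add_zero]
  zero_mem' := fun a _ => smul_zero a
  smul_mem' := fun c x hx a ha => by rw [smul_comm, hx a ha, smul_zero]

theorem mem_killed {I : Ideal A} {s : G} : s ∈ killed I G ↔ ∀ a ∈ I, a • s = 0 := Iff.rfl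

theorem killed_anti {I J : Ideal A} (h : I ≤ J) : killed J G ≤ killed I G := fun _ hs a ha => hs a (h ha)

theorem finite_killed_mul {I J : Ideal A} (hI : (killed I G).FG) (hJ : (killed J G).FG) :
    (killed (I * J) G).FG := by
  obtain ⟨gens, hgens⟩ := (IsNoetherian.noetherian J : J.FG)
  haveI : Module.Finite A (killed I G) := Module.Finite.iff_fg.2 hI
  let φ : killed (I * J) G →ₗ[A] ({a : A // a ∈ gens} → killed I G) := LinearMap.pi fun a =>
    { toFun := fun s => ⟨a.1 • s.1, fun i hi => by
        rw [smul_smul]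
        exact s.2 _ (Ideal.mul_mem_mul hi (hgens ▸ Ideal.subset_span a.2))⟩
      map_add' := fun x y => Subtype.ext (smul_add a.1 x.1 y.1)
      map_smul' := fun c x => Subtype.ext (smul_comm a.1 c x.1) }
  haveI : Module.Finite A (LinearMap.ker φ) := by
    haveI : Module.Finite A (killed J G) := Module.Finite.iff_fg.2 hJ
    let ψ : LinearMap.ker φ →ₗ[A] killed J G :=
      LinearMap.codRestrict _ ((killed (I * J) G).subtype.comp (LinearMap.ker φ).subtype) fun s a ha => by
        have hle : J ≤ (Submodule.colon (⊥ : Submodule A G) {s.1.1}) := by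
          refine le_of_eq_of_le hgens.symm (Ideal.span_le.2 fun b hb => ?_)
          have := congrArg (fun f => ((f ⟨b, hb⟩ : killed I G) : G)) (LinearMap.mem_ker.1 s.2)
          rw [SetLike.mem_coe, Submodule.mem_colon_singleton, Submodule.mem_bot]
          exact this
        have := hle ha
        rw [Submodule.mem_colon_singleton, Submodule.mem_bot] at this
        exact this
    exact Module.Finite.of_injective ψ fun x y h => Subtype.ext (Subtype.ext (congrArg (fun z : killed J G => z.1) h))
  haveI : Module.Finite A (killed (I * J) G ⧸ LinearMap.ker φ) :=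
    Module.Finite.equiv φ.quotKerEquivRange.symm
  exact Module.Finite.iff_fg.1 (Module.Finite.of_submodule_quotient (LinearMap.ker φ))

variable (P : Set (PrimeSpectrum A)) (ρ : M →ₗ[A] G) (hρ : Function.Injective ρ)
  (hsat : ∀ (s : G) (q : PrimeSpectrum A), (∀ a : A, a • s ∈ LinearMap.range ρ → a ∈ q.asIdeal) → q ∈ P)
  (hpure : ∀ s : G, (∀ q : PrimeSpectrum A, (∀ a : A, a • s = 0 → a ∈ q.asIdeal) → q ∈ P) → s = 0)
  (hass : ∀ (p : PrimeSpectrum A), p.asIdeal ∈ associatedPrimes A M → p ∉ P ∧
    EGA4.HeightOneHullFinite (A ⧸ p.asIdeal) ∧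
    ∀ q ∈ P, p.asIdeal ≤ q.asIdeal → ∃ r : Ideal A, r.IsPrime ∧ p.asIdeal < r ∧ r < q.asIdeal)

include hρ hsat hpure in
theorem smul_eq_zero_of_forall {a : A} {s : G}
    (h : ∀ m : M, (∃ c : A, c • s = ρ m) → a • m = 0) : a • s = 0 := by
  refine hpure _ fun q hq => hsat s q fun c hc => ?_
  obtain ⟨m, hm⟩ := hc
  refine hq c ?_
  rw [smul_comm, ← hm, ← map_smul, h m ⟨c, hm.symm⟩, map_zero]

include hρ hsat hpure hass in
theorem fg_killed_prime (p : PrimeSpectrum A) (hp : p.asIdeal ∈ associatedPrimes A M)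
    (hI : ∀ J : Ideal A, p.asIdeal < J → (killed J G).FG) : (killed p.asIdeal G).FG := by
  obtain ⟨hpP, hull, hgap⟩ := hass p hp
  let 𝔭 := p.asIdeal
  let B := A ⧸ 𝔭
  let K := FractionRing B
  haveI : IsNoetherianRing B := inferInstance
  -- the part of `M` killed by `p`, as a module over `B`
  let N := killed 𝔭 M
  letI : Module B N := Module.IsTorsionBySet.module (R := A) (M := N) (I := 𝔭) fun n a => Subtype.ext (n.2 a.1 a.2)
  haveI : IsScalarTower A B N := Module.IsTorsionBySet.isScalarTower (R := A) (M := N) (I := 𝔭) _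
  haveI : Module.Finite B N := Module.Finite.of_restrictScalars_finite A B N
  obtain ⟨duals, hduals⟩ := Module.Finite.fg_top (R := B) (M := N →ₗ[B] B)
  have hnum : ∀ s : killed 𝔭 G, ∀ q : PrimeSpectrum A, q ∉ P → ∃ (c : A) (m : N), c ∉ q.asIdeal ∧ c • s.1 = ρ m.1 :=
    fun s q hq => by
    by_contra hne
    push Not at hne
    refine hq (hsat s.1 q fun c hc => by_contra fun hcq => ?_)
    obtain ⟨m, hm⟩ := hc
    exact hne c ⟨m, fun a ha => hρ (by rw [map_smul, hm, map_zero, smul_comm, s.2 a ha, smul_zero])⟩ hcq hm.symm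
  choose c₀ m₀ hc₀ hm₀ using fun s => hnum s p hpP
  have hmk : ∀ a : A, a ∉ 𝔭 → algebraMap B K (Ideal.Quotient.mk 𝔭 a) ≠ 0 := fun a ha h0 =>
    ha (Ideal.Quotient.eq_zero_iff_mem.1 ((IsFractionRing.injective B K) (h0.trans (map_zero _).symm)))
  have hsm : ∀ (a : A) (n : N) (g : N →ₗ[B] B), g (a • n) = Ideal.Quotient.mk 𝔭 a * g n := fun a n g => by
    rw [← algebraMap_smul B a n, map_smul]
    rfl
  -- the extension of a functional
  let ext (g : N →ₗ[B] B) (s : killed 𝔭 G) : K :=
    algebraMap B K (g (m₀ s)) / algebraMap B K (Ideal.Quotient.mk 𝔭 (c₀ s))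
  have hext : ∀ g (s : killed 𝔭 G) (c : A) (m : N), c • s.1 = ρ m.1 →
      algebraMap B K (Ideal.Quotient.mk 𝔭 c) * ext g s = algebraMap B K (g m) := fun g s c m hm => by
    have e : (c₀ s) • m = c • m₀ s := Subtype.ext (hρ (by
      show ρ (c₀ s • m.1) = ρ (c • (m₀ s).1)
      rw [map_smul, map_smul, ← hm, ← hm₀, smul_comm]))
    have e' := congrArg (fun n => algebraMap B K (g n)) e
    simp only [hsm, map_mul] at e'
    simp only [ext]
    rw [← mul_div_assoc, ← e', mul_div_cancel_left₀ _ (hmk _ (hc₀ s))]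
  let extL (g : N →ₗ[B] B) : killed 𝔭 G →ₗ[A] K :=
    { toFun := ext g
      map_add' := fun s t => by
        refine mul_left_cancel₀ (mul_ne_zero (hmk _ (hc₀ s)) (hmk _ (hc₀ t))) ?_
        have h := hext g (s + t) (c₀ s * c₀ t) (c₀ t • m₀ s + c₀ s • m₀ t) (by
          show (c₀ s * c₀ t) • (s.1 + t.1) = ρ (c₀ t • (m₀ s).1 + c₀ s • (m₀ t).1)
          rw [map_add, map_smul, map_smul, ← hm₀, ← hm₀, smul_smul, smul_smul, smul_add, mul_comm (c₀ t)])
        rw [map_mul, map_mul] at h
        rw [h, map_add, hsm, hsm, map_add, map_mul, map_mul, ← hext g s (c₀ s) (m₀ s) (hm₀ s),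
          ← hext g t (c₀ t) (m₀ t) (hm₀ t)]
        ring
      map_smul' := fun a s => by
        refine mul_left_cancel₀ (hmk _ (hc₀ s)) ?_
        have h := hext g (a • s) (c₀ s) (a • m₀ s) (by
          show c₀ s • (a • s.1) = ρ (a • (m₀ s).1)
          rw [map_smul, ← hm₀, smul_comm])
        rw [h, hsm, map_mul, ← hext g s (c₀ s) (m₀ s) (hm₀ s), RingHom.id_apply, Algebra.smul_def,
          IsScalarTower.algebraMap_apply A B K]
        exact mul_left_comm _ _ _ }
  -- values lie in a finite algebra
  obtain ⟨T, hT, hTfin⟩ := hull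
  haveI : Module.Finite B T := hTfin
  haveI : Module.Finite A T := Module.Finite.trans B T
  have hval : ∀ g (s : killed 𝔭 G), ext g s ∈ T := fun g s => hT.symm.subset fun q hq hq1 => by
    have hqP : (⟨q.comap (Ideal.Quotient.mk 𝔭), inferInstance⟩ : PrimeSpectrum A) ∉ P := fun hmem => by
      have hle : 𝔭 ≤ q.comap (Ideal.Quotient.mk 𝔭) := fun a ha => by
        rw [Ideal.mem_comap, Ideal.Quotient.eq_zero_iff_mem.2 ha]
        exact q.zero_mem
      obtain ⟨r, hr, h1, h2⟩ := hgap _ hmem hle
      let r' := r.map (Ideal.Quotient.mk 𝔭)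
      haveI : r'.IsPrime := Ideal.map_isPrime_of_surjective Ideal.Quotient.mk_surjective
        (by rw [Ideal.mk_ker]; exact h1.le)
      have hcm : r'.comap (Ideal.Quotient.mk 𝔭) = r := by
        rw [Ideal.comap_map_of_surjective _ Ideal.Quotient.mk_surjective, ← RingHom.ker_eq_comap_bot, Ideal.mk_ker,
          sup_eq_left.2 h1.le]
      have hb : (⊥ : Ideal B) < r' := bot_lt_iff_ne_bot.2 fun hb => h1.ne (by
        rw [← hcm, hb, ← RingHom.ker_eq_comap_bot, Ideal.mk_ker])
      have hq' : r' < q := by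
        refine lt_of_le_of_ne ?_ fun e => h2.ne (hcm.symm.trans (by rw [e]))
        rw [← Ideal.map_comap_of_surjective _ Ideal.Quotient.mk_surjective q]
        exact Ideal.map_mono h2.le
      have e1 : (⊥ : Ideal B).height < r'.height := Ideal.height_strict_mono_of_isPrime hb
      have e2 : r'.height < q.height := Ideal.height_strict_mono_of_isPrime hq'
      rw [hq1] at e2
      exact absurd (lt_of_le_of_lt bot_le e1) (not_lt.2 (ENat.lt_one_iff_eq_zero.1 e2).le)
    obtain ⟨c, m, hc, hm⟩ := hnum s _ hqP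
    exact ⟨Ideal.Quotient.mk 𝔭 c, hc, g m, (hext g s c m hm).symm⟩
  let φ : killed 𝔭 G →ₗ[A] ({g : N →ₗ[B] B // g ∈ duals} → T) := LinearMap.pi fun g =>
    LinearMap.codRestrict ((T.restrictScalars A).toSubmodule) (extL g.1) (hval g.1)
  -- the kernel is killed by a bigger ideal
  haveI hker : Module.Finite A (LinearMap.ker φ) := by
    let tors : Submodule A N :=
      { carrier := {n | ∀ g : N →ₗ[B] B, g n = 0}
        add_mem' := fun hx hy g => by rw [map_add, hx g, hy g, add_zero]
        zero_mem' := fun g => map_zero g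
        smul_mem' := fun a x hx g => by rw [hsm, hx g, mul_zero] }
    haveI : Module.Finite A N := inferInstance
    obtain ⟨tg, htg⟩ := (IsNoetherian.noetherian tors)
    choose! b hb hbz using fun (n : N) (hn : n ∈ tors) => exists_smul_eq_zero_of_dual_eq_zero n hn
    choose b' hb' using fun n : N => Ideal.Quotient.mk_surjective (b n)
    let a := ∏ n ∈ tg, b' n
    have ha : a ∉ 𝔭 := fun h => by
      obtain ⟨n, hn, hnp⟩ := p.isPrime.prod_mem_iff.1 h
      exact hb n (htg ▸ Submodule.subset_span hn) (by rw [← hb', Ideal.Quotient.eq_zero_iff_mem.2 hnp])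
    have hat : ∀ n ∈ tors, a • n = 0 := fun n hn => by
      rw [← htg] at hn
      induction hn using Submodule.span_induction with
      | mem x hx =>
        obtain ⟨w, hw⟩ := Finset.dvd_prod_of_mem b' (show x ∈ tg from hx)
        rw [show a = w * b' x from hw.trans (mul_comm _ _), mul_smul, ← algebraMap_smul B (b' x) x,
          Ideal.Quotient.algebraMap_eq, hb', hbz x (htg ▸ Submodule.subset_span hx), smul_zero]
      | zero => exact smul_zero a
      | add x y _ _ hx hy => rw [smul_add, hx, hy, add_zero]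
      | smul c x _ hx => rw [smul_comm, hx, smul_zero]
    have hlt : 𝔭 < 𝔭 ⊔ Ideal.span {a} := lt_of_le_of_ne le_sup_left fun e =>
      ha (e ▸ Ideal.mem_sup_right (Ideal.mem_span_singleton_self a))
    haveI : Module.Finite A (killed (𝔭 ⊔ Ideal.span {a}) G) := Module.Finite.iff_fg.2 (hI _ hlt)
    refine Module.Finite.of_injective (LinearMap.codRestrict (killed (𝔭 ⊔ Ideal.span {a}) G)
      ((killed 𝔭 G).subtype.comp (LinearMap.ker φ).subtype) fun s => ?_) ?_
    · have has : a • s.1.1 = 0 := smul_eq_zero_of_forall P ρ hρ hsat hpure fun m hm => by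
        obtain ⟨c, hm⟩ := hm
        let n : N := ⟨m, fun x hx => hρ (by rw [map_smul, ← hm, map_zero, smul_comm, s.1.2 x hx, smul_zero])⟩
        refine congrArg Subtype.val (hat n fun g => ?_)
        have hg : g ∈ Submodule.span B (duals : Set (N →ₗ[B] B)) := hduals ▸ Submodule.mem_top
        induction hg using Submodule.span_induction with
        | mem x hx =>
          have h0 : extL x s.1 = 0 := congrArg (fun f => ((f ⟨x, hx⟩ : T) : K)) (LinearMap.mem_ker.1 s.2)
          have := hext x s.1 c n hm
          rw [show ext x s.1 = 0 from h0, mul_zero] at this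
          exact (IsFractionRing.injective B K) (this.symm.trans (map_zero _).symm)
        | zero => rfl
        | add x y _ _ hx hy => rw [LinearMap.add_apply, hx, hy, add_zero]
        | smul r x _ hx => rw [LinearMap.smul_apply, hx, smul_zero]
      intro x hx
      obtain ⟨i, hi, j, hj, rfl⟩ := Submodule.mem_sup.1 hx
      obtain ⟨r, rfl⟩ := Ideal.mem_span_singleton'.1 hj
      show (i + r * a) • s.1.1 = 0
      rw [add_smul, s.1.2 i hi, mul_smul, has, smul_zero, add_zero]
    · exact fun x y h => Subtype.ext (Subtype.ext (congrArg (fun z : killed (𝔭 ⊔ Ideal.span {a}) G => z.1) h))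
  haveI : Module.Finite A (killed 𝔭 G ⧸ LinearMap.ker φ) := Module.Finite.equiv φ.quotKerEquivRange.symm
  exact Module.Finite.iff_fg.1 (Module.Finite.of_submodule_quotient (LinearMap.ker φ))

include hρ hsat hpure hass in
/-- A saturation of a finite module along a set of primes is finite. -/
theorem finite_of_sat : Module.Finite A G := by
  suffices key : ∀ I : Ideal A, (killed I G).FG by
    haveI : Module.Finite A (killed (⊥ : Ideal A) G) := Module.Finite.iff_fg.2 (key ⊥)
    exact Module.Finite.of_surjective (killed (⊥ : Ideal A) G).subtype fun s =>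
      ⟨⟨s, fun a ha => by rw [(Submodule.mem_bot A).1 ha, zero_smul]⟩, rfl⟩
  intro I
  induction I using WellFoundedGT.induction with
  | _ I ih =>
    let N := killed I M
    let I' := Module.annihilator A N
    have hII' : I ≤ I' := fun a ha => Module.mem_annihilator.2 fun n => Subtype.ext (n.2 a ha)
    have heq : killed I G = killed I' G := le_antisymm (fun s hs a ha =>
      smul_eq_zero_of_forall P ρ hρ hsat hpure fun m hm => by
        obtain ⟨c, hm⟩ := hm
        exact congrArg Subtype.val (Module.mem_annihilator.1 ha ⟨m, fun x hx => hρ (by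
          rw [map_smul, ← hm, map_zero, smul_comm, hs x hx, smul_zero])⟩)) (killed_anti hII')
    rcases eq_or_lt_of_le hII' with e | e
    swap
    · exact heq ▸ ih I' e
    have hfin : I.minimalPrimes.Finite := Ideal.finite_minimalPrimes_of_isNoetherianRing A I
    have hmem : ∀ q ∈ I.minimalPrimes, q ∈ associatedPrimes A M := fun q hq =>
      associatedPrimes.subset_of_injective (f := N.subtype) Subtype.val_injective
        (Module.associatedPrimes.minimalPrimes_annihilator_subset_associatedPrimes (R := A) (M := N)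
          ((congrArg Ideal.minimalPrimes e).subset hq))
    have hq : ∀ q ∈ I.minimalPrimes, (killed q G).FG := fun q hq => by
      rcases eq_or_lt_of_le hq.1.2 with e' | e'
      · subst e'
        exact fg_killed_prime P ρ hρ hsat hpure hass ⟨I, hq.1.1⟩ (hmem _ hq) ih
      · exact ih q e'
    have hone : (killed (⊤ : Ideal A) G).FG := by
      rw [show killed (⊤ : Ideal A) G = ⊥ from eq_bot_iff.2 fun s hs => by simpa using hs 1 trivial]
      exact Submodule.fg_bot
    have hprod : ∀ (l : Finset (Ideal A)) (n : ℕ), (∀ q ∈ l, (killed q G).FG) →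
        (killed ((∏ q ∈ l, q) ^ n) G).FG := fun l n hl => by
      have h1 : (killed (∏ q ∈ l, q) G).FG := by
        induction l using Finset.induction with
        | empty => rw [Finset.prod_empty, Ideal.one_eq_top]; exact hone
        | insert a t hat ih =>
          rw [Finset.prod_insert hat]
          exact finite_killed_mul (hl a (Finset.mem_insert_self a t))
            (ih fun q hq => hl q (Finset.mem_insert_of_mem hq))
      induction n with
      | zero => rw [pow_zero, Ideal.one_eq_top]; exact hone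
      | succ n ihn => rw [pow_succ]; exact finite_killed_mul ihn h1
    obtain ⟨n, hn⟩ := Ideal.exists_radical_pow_le_of_fg I (IsNoetherian.noetherian _)
    have hle : (∏ q ∈ hfin.toFinset, q) ≤ I.radical := by
      rw [← Ideal.sInf_minimalPrimes]
      refine le_sInf fun J hJ => (Ideal.prod_le_inf).trans (Finset.inf_le (hfin.mem_toFinset.2 hJ))
    haveI : Module.Finite A (killed ((∏ q ∈ hfin.toFinset, q) ^ n) G) :=
      Module.Finite.iff_fg.2 (hprod _ n fun q hqm => hq q (hfin.mem_toFinset.1 hqm))
    exact Module.Finite.iff_fg.1 (Module.Finite.of_injective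
      (Submodule.inclusion (killed_anti ((Ideal.pow_right_mono hle n).trans hn)))
      (Submodule.inclusion_injective _))

/-- An associated prime outside `P` of the image of `M` is associated to `M`. -/
theorem mem_ass_of_mem_ass_range {M₀ : Type u} [AddCommGroup M₀] [Module A M₀] [Module.Finite A M₀]
    (P : Set (PrimeSpectrum A)) (ρ₀ : M₀ →ₗ[A] G)
    (hker : ∀ m : M₀, ρ₀ m = 0 → ∀ q : PrimeSpectrum A, q ∉ P → ∃ c : A, c ∉ q.asIdeal ∧ c • m = 0)
    {p : PrimeSpectrum A} (hp : p ∉ P) (h : p.asIdeal ∈ associatedPrimes A (LinearMap.range ρ₀)) :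
    p.asIdeal ∈ associatedPrimes A M₀ := by
  obtain ⟨-, z, hz⟩ := isAssociatedPrime_iff.1 h
  obtain ⟨m, hm⟩ := z.2
  have hann : ∀ a : A, a ∈ p.asIdeal ↔ ρ₀ (a • m) = 0 := fun a => by
    rw [hz, Submodule.mem_colon_singleton, Submodule.mem_bot, map_smul, hm]
    exact ⟨fun e => congrArg Subtype.val e, fun e => Subtype.ext e⟩
  obtain ⟨gens, hgens⟩ := (IsNoetherian.noetherian (LinearMap.ker ρ₀))
  choose! c hc hcm using fun (n : M₀) (hn : n ∈ LinearMap.ker ρ₀) => hker n (LinearMap.mem_ker.1 hn) p hp
  let C := ∏ n ∈ gens, c n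
  have hC : C ∉ p.asIdeal := fun h => by
    obtain ⟨n, hn, hnp⟩ := p.isPrime.prod_mem_iff.1 h
    exact hc n (hgens ▸ Submodule.subset_span hn) hnp
  have hCk : ∀ n ∈ LinearMap.ker ρ₀, C • n = 0 := fun n hn => by
    rw [← hgens] at hn
    induction hn using Submodule.span_induction with
    | mem x hx =>
      obtain ⟨w, hw⟩ := Finset.dvd_prod_of_mem c (show x ∈ gens from hx)
      rw [show C = w * c x from hw.trans (mul_comm _ _), mul_smul, hcm x (hgens ▸ Submodule.subset_span hx), smul_zero]
    | zero => exact smul_zero C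
    | add x y _ _ hx hy => rw [smul_add, hx, hy, add_zero]
    | smul a x _ hx => rw [smul_comm, hx, smul_zero]
  refine isAssociatedPrime_iff.2 ⟨p.isPrime, C • m, Ideal.ext fun a => ?_⟩
  rw [Submodule.mem_colon_singleton, Submodule.mem_bot]
  refine ⟨fun ha => ?_, fun ha => (p.isPrime.mem_or_mem (x := C) (y := a) ?_).resolve_left hC⟩
  · rw [smul_comm]
    exact hCk _ (LinearMap.mem_ker.2 ((hann a).1 ha))
  · rw [hann, mul_smul, smul_comm, ha, map_zero]

/-- The saturation finiteness without injectivity. -/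
theorem finite_of_sat' {M₀ : Type u} [AddCommGroup M₀] [Module A M₀] [Module.Finite A M₀]
    (P : Set (PrimeSpectrum A)) (ρ₀ : M₀ →ₗ[A] G)
    (hsat : ∀ (s : G) (q : PrimeSpectrum A), (∀ a : A, a • s ∈ LinearMap.range ρ₀ → a ∈ q.asIdeal) → q ∈ P)
    (hpure : ∀ s : G, (∀ q : PrimeSpectrum A, (∀ a : A, a • s = 0 → a ∈ q.asIdeal) → q ∈ P) → s = 0)
    (hker : ∀ m : M₀, ρ₀ m = 0 → ∀ q : PrimeSpectrum A, q ∉ P → ∃ c : A, c ∉ q.asIdeal ∧ c • m = 0)
    (hstab : ∀ q ∈ P, ∀ q' : PrimeSpectrum A, q.asIdeal ≤ q'.asIdeal → q' ∈ P)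
    (hass : ∀ (p : PrimeSpectrum A), p.asIdeal ∈ associatedPrimes A M₀ → p ∉ P →
      EGA4.HeightOneHullFinite (A ⧸ p.asIdeal) ∧
      ∀ q ∈ P, p.asIdeal ≤ q.asIdeal → ∃ r : Ideal A, r.IsPrime ∧ p.asIdeal < r ∧ r < q.asIdeal) :
    Module.Finite A G := by
  refine finite_of_sat P (LinearMap.range ρ₀).subtype Subtype.val_injective
    (fun s q hq => hsat s q fun a ha => hq a (by rwa [Submodule.range_subtype])) hpure fun p hp => ?_
  have hpP : p ∉ P := fun hmem => by
    obtain ⟨hprime, z, hz⟩ := isAssociatedPrime_iff.1 hp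
    have : (z : G) = 0 := hpure _ fun q hq => hstab p hmem q fun a ha => hq a (by
      rw [hz, Submodule.mem_colon_singleton, Submodule.mem_bot] at ha
      exact congrArg Subtype.val ha)
    refine hprime.ne_top ((Ideal.eq_top_iff_one _).2 ?_)
    rw [hz, Submodule.mem_colon_singleton, Submodule.mem_bot, one_smul]
    exact Subtype.ext this
  exact ⟨hpP, hass p (mem_ass_of_mem_ass_range P ρ₀ hker hpP hp) hpP⟩

end Groth.Agent.ZClosLib
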